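import Cfsg.Agent.Spor.Suz.Top
import Cfsg.Agent.Spor.Suz.Link

set_option autoImplicit false
set_option Elab.async false
set_option maxRecDepth 100000

namespace Cfsg.Agent.Spor.SuzC.M

open Cfsg.Agent.Comp.BN

def ws : List (List ℕ) := [[0], [1], [2], [3], [4], [5]]

theorem orb0S_0 : orbC Cfsg.Agent.Spor.SuzC.M.act [] [[0], [1], [2], [3], [4], [5], [6]] 6 (Nat.shiftLeft 1 0) (ones 1782) = true :=
  by decide +kernel

theorem orb0S : OrbS Cfsg.Agent.Spor.SuzC.M.π [] 0 (ones 1782) :=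
  orbS_step Cfsg.Agent.Spor.SuzC.M.spec (orbS_init Cfsg.Agent.Spor.SuzC.M.π [] 0) orb0S_0

theorem orb0 : PModel.IsOrbit Cfsg.Agent.Spor.SuzC.M.π 0 (ones 1782) 1782 :=
  PModel.isOrbit_of Cfsg.Agent.Spor.SuzC.M.spec (nl := 7) (K := 11) Cfsg.Agent.Spor.SuzC.M.out orb0S (by decide +kernel)

theorem hfix : allL (fixC Cfsg.Agent.Spor.SuzC.M.act [0]) ws = true :=
  by decide +kernel

noncomputable def so0S_S0 : ℕ := nat_lit 0x1feffffffffffffffff3ffffffffffffffffffffffffe0022dffffffffffffffffffffffffffffffffffffffffffffffffffffffffffffffffffffffffffffbefffffe7dffffcf5ffffee7ffffffffffffffffffffffdfffe3fff036550000000d0074020000000003fffbd38343b7c003ffffffffffffffffffffffffffffffffffffffffffefa5d120fffffffffffff0000000000ffffffffffffbeea3aa1000022de01fe1bc2161b78000007ffffffc7ffffffffffffe829466345311252996dfe498cc4bcc31fedb4cf7fb747fffd3bffff5cffffe3fffbfff8fffffe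

theorem so0S_0 : orbC (subAct Cfsg.Agent.Spor.SuzC.M.act ws) [] [[0], [1], [2], [3], [4], [5]] 5 (Nat.shiftLeft 1 1) so0S_S0 = true :=
  by decide +kernel

theorem so0S : OrbS (subT Cfsg.Agent.Spor.SuzC.M.π ws) [] 1 so0S_S0 :=
  orbS_step (Cfsg.Agent.Spor.SuzC.M.spec.sub ws) (orbS_init (subT Cfsg.Agent.Spor.SuzC.M.π ws) [] 1) so0S_0

theorem so0 : PModel.IsOrbit (subT Cfsg.Agent.Spor.SuzC.M.π ws) 1 so0S_S0 1365 :=
  PModel.isOrbit_of (Cfsg.Agent.Spor.SuzC.M.spec.sub ws) (nl := ws.length) (K := 11) (PModel.subT_out Cfsg.Agent.Spor.SuzC.M.π ws) so0S (by decide +kernel)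

noncomputable def so1S_S0 : ℕ := nat_lit 0x3e010000000000000000c0000000000000000000000001ffdd200000000000000000000000000000000000000000000000000000000000000000000000000004100000182000030a0000118000000000000000000000020001c000fc9aafffffff2ff8bfdfffffffffc00042c7cbc483ffc000000000000000000000000000000000000000000105a2edf0000000000000ffffffffff0000000000004115c55effffdd21fe01e43de9e487fffff80000003800000000000017d6b99cbaceedad669201b6733b433ce0124b308048b80002c40000a300001c00040007000000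

theorem so1S_0 : orbC (subAct Cfsg.Agent.Spor.SuzC.M.act ws) [] [[0], [1], [2], [3], [4], [5]] 4 (Nat.shiftLeft 1 24) so1S_S0 = true :=
  by decide +kernel

theorem so1S : OrbS (subT Cfsg.Agent.Spor.SuzC.M.π ws) [] 24 so1S_S0 :=
  orbS_step (Cfsg.Agent.Spor.SuzC.M.spec.sub ws) (orbS_init (subT Cfsg.Agent.Spor.SuzC.M.π ws) [] 24) so1S_0

theorem so1 : PModel.IsOrbit (subT Cfsg.Agent.Spor.SuzC.M.π ws) 24 so1S_S0 416 :=
  PModel.isOrbit_of (Cfsg.Agent.Spor.SuzC.M.spec.sub ws) (nl := ws.length) (K := 11) (PModel.subT_out Cfsg.Agent.Spor.SuzC.M.π ws) so1S (by decide +kernel)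

theorem chH_c0 : levelC (subAct Cfsg.Agent.Spor.SuzC.M.act ws) 11 [] 1781 [[0], [1], [2], [3], [4], [5]] 6 416 = true :=
  by decide +kernel

theorem chH_l0 : LevelOK (subT Cfsg.Agent.Spor.SuzC.M.π ws) [] 1781 416 :=
  level_of_check (Cfsg.Agent.Spor.SuzC.M.spec.sub ws) chH_c0

theorem chH_c1 : levelC (subAct Cfsg.Agent.Spor.SuzC.M.act ws) 11 [1781] 1 [[0], [1], [2], [3], [4]] 6 315 = true :=
  by decide +kernel

theorem chH_l1 : LevelOK (subT Cfsg.Agent.Spor.SuzC.M.π ws) [1781] 1 315 :=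
  level_of_check (Cfsg.Agent.Spor.SuzC.M.spec.sub ws) chH_c1

theorem chH_c2 : levelC (subAct Cfsg.Agent.Spor.SuzC.M.act ws) 11 [1, 1781] 312 [[0], [2], [3], [4], [1, 0, 1, 0, 2, 1, 3, 2, 3, 1, 0, 1, 2, 0, 1]] 4 640 = true :=
  by decide +kernel

theorem chH_l2 : LevelOK (subT Cfsg.Agent.Spor.SuzC.M.π ws) [1, 1781] 312 640 :=
  level_of_check (Cfsg.Agent.Spor.SuzC.M.spec.sub ws) chH_c2

theorem chH_c3 : levelC (subAct Cfsg.Agent.Spor.SuzC.M.act ws) 11 [312, 1, 1781] 20 [[1, 0, 1, 0, 2, 1, 3, 2, 3, 1, 0, 1, 2, 0, 1, 3, 2, 3, 2]] 2 3 = true :=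
  by decide +kernel

theorem chH_l3 : LevelOK (subT Cfsg.Agent.Spor.SuzC.M.π ws) [312, 1, 1781] 20 3 :=
  level_of_check (Cfsg.Agent.Spor.SuzC.M.spec.sub ws) chH_c3

theorem chH : ChainOK (subT Cfsg.Agent.Spor.SuzC.M.π ws) [] [(1781, 416), (1, 315), (312, 640), (20, 3)] :=
  ⟨chH_l0, chH_l1, chH_l2, chH_l3, trivial⟩

theorem ch : ChainOK Cfsg.Agent.Spor.SuzC.M.π [] [(0, 1782), (1781, 416), (1, 315), (312, 640), (20, 3)] :=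
  ⟨orb0.level, ChainOK.of_sub Cfsg.Agent.Spor.SuzC.M.spec hfix chH⟩

theorem mod : Nat.card Cfsg.Spor.Suz = 448345497600 ∧ ∃ ρ, PModel Cfsg.Agent.Spor.SuzC.P Cfsg.Agent.Spor.SuzC.x Cfsg.Agent.Spor.SuzC.M.π [20, 312, 1, 1781, 0] ρ :=
  Cfsg.Agent.Spor.SuzC.link.1.model Cfsg.Agent.Spor.SuzC.bound sat ch (by decide)

theorem card : Nat.card Cfsg.Spor.Suz = 448345497600 :=
  mod.1

noncomputable def ρ : Cfsg.Spor.Suz →* Equiv.Perm ℕ := Classical.choose mod.2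

theorem model : PModel Cfsg.Agent.Spor.SuzC.P Cfsg.Agent.Spor.SuzC.x Cfsg.Agent.Spor.SuzC.M.π [20, 312, 1, 1781, 0] ρ :=
  Classical.choose_spec mod.2

theorem hstab : gen (subT Cfsg.Agent.Spor.SuzC.x ws) = fixS ρ [0] :=
  model.sub_eq_stab Cfsg.Agent.Spor.SuzC.M.spec orb0 hfix chH (card.le.trans (by decide))

theorem soP0 : OrbS Cfsg.Agent.Spor.SuzC.M.π [0] 1 so0S_S0 :=
  OrbS.of_sub Cfsg.Agent.Spor.SuzC.M.spec so0.orbS hfix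

theorem soP1 : OrbS Cfsg.Agent.Spor.SuzC.M.π [0] 24 so1S_S0 :=
  OrbS.of_sub Cfsg.Agent.Spor.SuzC.M.spec so1.orbS hfix

theorem prim0 : PrimOn Cfsg.Agent.Spor.SuzC.M.π 0 (ones 1782) so0S_S0 :=
  primOn_of_letters Cfsg.Agent.Spor.SuzC.M.spec (g := [6]) (hs := ws) (by decide +kernel) soP0 orb0 Cfsg.Agent.Spor.SuzC.M.out (by decide +kernel)

theorem prim1 : PrimOn Cfsg.Agent.Spor.SuzC.M.π 0 (ones 1782) so1S_S0 :=
  PrimOn.of_word Cfsg.Agent.Spor.SuzC.M.spec (g := [6, 4, 0, 1, 2, 3, 1, 2, 0, 1, 6]) (hs := ws) prim0 (by decide +kernel) soP1 [0, 0] (by decide +kernel)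

theorem prim : AllP (PrimOn Cfsg.Agent.Spor.SuzC.M.π 0 (ones 1782)) [so0S_S0, so1S_S0] :=
  ⟨prim0, prim1, trivial⟩

theorem cover : subs (ones 1782) (orL [so0S_S0, so1S_S0] (Nat.shiftLeft 1 0)) = true :=
  by decide +kernel

theorem st0 : fixC Cfsg.Agent.Spor.SuzC.M.act [20, 312, 1, 1781, 0] (substU Cfsg.Agent.Spor.SuzC.P.inv.length [5, 4, 6, 2, 1, 3] [1, 2, 7, 2, 1, 0, 1, 2, 7, 2, 1, 0, 1, 2, 7, 2, 1, 0, 1, 2, 7, 2, 1, 0, 1, 2, 7, 2, 1, 0, 1, 2, 7, 2, 1, 0, 1, 2, 7, 2, 1, 0]) = true :=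
  by decide +kernel

theorem st1 : fixC Cfsg.Agent.Spor.SuzC.M.act [20, 312, 1, 1781, 0] (substU Cfsg.Agent.Spor.SuzC.P.inv.length [5, 4, 6, 2, 1, 3] [0, 1, 0, 1, 0, 1, 0, 1, 0, 1]) = true :=
  by decide +kernel

theorem st2 : fixC Cfsg.Agent.Spor.SuzC.M.act [20, 312, 1, 1781, 0] (substU Cfsg.Agent.Spor.SuzC.P.inv.length [5, 4, 6, 2, 1, 3] [1, 2, 1, 2, 1, 2]) = true :=
  by decide +kernel

theorem st3 : fixC Cfsg.Agent.Spor.SuzC.M.act [20, 312, 1, 1781, 0] (substU Cfsg.Agent.Spor.SuzC.P.inv.length [5, 4, 6, 2, 1, 3] [1, 5, 1, 5, 1, 5]) = true :=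
  by decide +kernel

theorem st4 : fixC Cfsg.Agent.Spor.SuzC.M.act [20, 312, 1, 1781, 0] (substU Cfsg.Agent.Spor.SuzC.P.inv.length [5, 4, 6, 2, 1, 3] [1, 6, 1, 6, 1, 6]) = true :=
  by decide +kernel

theorem st5 : fixC Cfsg.Agent.Spor.SuzC.M.act [20, 312, 1, 1781, 0] (substU Cfsg.Agent.Spor.SuzC.P.inv.length [5, 4, 6, 2, 1, 3] [1, 2, 3, 2, 3, 1, 2, 3, 2, 3, 1, 2, 3, 2, 3, 1, 2, 3, 2, 3, 1, 2, 3, 2, 3, 4, 1, 2, 3, 2, 3, 1, 2, 3, 2, 3, 1, 2, 3, 2, 3, 1, 2, 3, 2, 3, 1, 2, 3, 2, 3, 4, 1, 2, 3, 2, 3, 1, 2, 3, 2, 3, 1, 2, 3, 2, 3, 1, 2, 3, 2, 3, 1, 2, 3, 2, 3, 4]) = true :=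
  by decide +kernel

theorem st6 : fixC Cfsg.Agent.Spor.SuzC.M.act [20, 312, 1, 1781, 0] (substU Cfsg.Agent.Spor.SuzC.P.inv.length [5, 4, 6, 2, 1, 3] [3, 4, 3, 4, 3, 4]) = true :=
  by decide +kernel

theorem simple : IsSimpleGroup Cfsg.Spor.Suz :=
  model.simple Cfsg.Agent.Spor.SuzC.M.spec card orb0 prim cover (by decide +kernel) (u := [5, 4, 6, 2, 1, 3]) (m := 11) (by norm_num) (by decide +kernel)
    (steps := [(0, [1, 2, 7, 2, 1, 0, 1, 2, 7, 2, 1, 0, 1, 2, 7, 2, 1, 0, 1, 2, 7, 2, 1, 0, 1, 2, 7, 2, 1, 0, 1, 2, 7, 2, 1, 0, 1, 2, 7, 2, 1, 0]), (1, [0, 1, 0, 1, 0, 1, 0, 1, 0, 1]), (2, [1, 2, 1, 2, 1, 2]), (5, [1, 5, 1, 5, 1, 5]), (6, [1, 6, 1, 6, 1, 6]), (4, [1, 2, 3, 2, 3, 1, 2, 3, 2, 3, 1, 2, 3, 2, 3, 1, 2, 3, 2, 3, 1, 2, 3, 2, 3, 4, 1, 2, 3, 2, 3, 1, 2, 3, 2, 3, 1, 2, 3, 2, 3, 1, 2, 3, 2, 3, 1, 2, 3, 2, 3, 4, 1, 2, 3, 2, 3, 1, 2, 3, 2, 3,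 1, 2, 3, 2, 3, 1, 2, 3, 2, 3, 1, 2, 3, 2, 3, 4]), (3, [3, 4, 3, 4, 3, 4])])
    ⟨st0, st1, st2, st3, st4, st5, st6, trivial⟩ (by decide +kernel)

theorem subeq : (Subgroup.closure ({Cfsg.Spor.Suz.a, Cfsg.Spor.Suz.b, Cfsg.Spor.Suz.c, Cfsg.Spor.Suz.d, Cfsg.Spor.Suz.e, Cfsg.Spor.Suz.f} : Set (FreeGroup Cfsg.Spor.Suz.Gen))).map
    (PresentedGroup.mk (Cfsg.Spor.coxRelators Cfsg.Spor.Suz.edges ∪ {r | r ∈ Cfsg.Spor.Suz.extra})) = gen (subT Cfsg.Agent.Spor.SuzC.x ws) :=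
  map_closure_eq Cfsg.Agent.Spor.SuzC.link.2 [Cfsg.Spor.Suz.a, Cfsg.Spor.Suz.b, Cfsg.Spor.Suz.c, Cfsg.Spor.Suz.d, Cfsg.Spor.Suz.e, Cfsg.Spor.Suz.f] ws (by decide +kernel) _ (fun w => by simp only [Set.mem_insert_iff, Set.mem_singleton_iff, List.mem_cons, List.not_mem_nil, or_false])

def ws6 : List (List ℕ) := [[0], [1], [2], [3], [5], [6]]

theorem ch6_c0 : levelC (subAct Cfsg.Agent.Spor.SuzC.M.act ws6) 11 [] 0 [[0], [1], [2], [3], [4], [5]] 6 162 = true :=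
  by decide +kernel

theorem ch6_l0 : LevelOK (subT Cfsg.Agent.Spor.SuzC.M.π ws6) [] 0 162 :=
  level_of_check (Cfsg.Agent.Spor.SuzC.M.spec.sub ws6) ch6_c0

theorem ch6_c1 : levelC (subAct Cfsg.Agent.Spor.SuzC.M.act ws6) 11 [0] 1781 [[0], [1], [2], [3], [4]] 5 56 = true :=
  by decide +kernel

theorem ch6_l1 : LevelOK (subT Cfsg.Agent.Spor.SuzC.M.π ws6) [0] 1781 56 :=
  level_of_check (Cfsg.Agent.Spor.SuzC.M.spec.sub ws6) ch6_c1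

theorem ch6_c2 : levelC (subAct Cfsg.Agent.Spor.SuzC.M.act ws6) 11 [1781, 0] 20 [[0], [1], [2], [3]] 6 270 = true :=
  by decide +kernel

theorem ch6_l2 : LevelOK (subT Cfsg.Agent.Spor.SuzC.M.π ws6) [1781, 0] 20 270 :=
  level_of_check (Cfsg.Agent.Spor.SuzC.M.spec.sub ws6) ch6_c2

theorem ch6_c3 : levelC (subAct Cfsg.Agent.Spor.SuzC.M.act ws6) 11 [20, 1781, 0] 5 [[0], [3], [2, 3, 2]] 1 8 = true :=
  by decide +kernel

theorem ch6_l3 : LevelOK (subT Cfsg.Agent.Spor.SuzC.M.π ws6) [20, 1781, 0] 5 8 :=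
  level_of_check (Cfsg.Agent.Spor.SuzC.M.spec.sub ws6) ch6_c3

theorem ch6 : ChainOK (subT Cfsg.Agent.Spor.SuzC.M.π ws6) [] [(0, 162), (1781, 56), (20, 270), (5, 8)] :=
  ⟨ch6_l0, ch6_l1, ch6_l2, ch6_l3, trivial⟩

theorem card6 : Nat.card (gen (subT Cfsg.Agent.Spor.SuzC.x ws6)) = 19595520 :=
  model.card_sub Cfsg.Agent.Spor.SuzC.b6 (Cfsg.Agent.Spor.SuzC.i6 _ _ model.sat) ch6 (by decide)

theorem subeq6 : (Subgroup.closure ({Cfsg.Spor.Suz.a, Cfsg.Spor.Suz.b, Cfsg.Spor.Suz.c, Cfsg.Spor.Suz.d, Cfsg.Spor.Suz.f, Cfsg.Spor.Suz.g} : Set (FreeGroup Cfsg.Spor.Suz.Gen))).map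
    (PresentedGroup.mk (Cfsg.Spor.coxRelators Cfsg.Spor.Suz.edges ∪ {r | r ∈ Cfsg.Spor.Suz.extra})) = gen (subT Cfsg.Agent.Spor.SuzC.x ws6) :=
  map_closure_eq Cfsg.Agent.Spor.SuzC.link.2 [Cfsg.Spor.Suz.a, Cfsg.Spor.Suz.b, Cfsg.Spor.Suz.c, Cfsg.Spor.Suz.d, Cfsg.Spor.Suz.f, Cfsg.Spor.Suz.g] ws6 (by decide +kernel) _ (fun w => by simp only [Set.mem_insert_iff, Set.mem_singleton_iff, List.mem_cons, List.not_mem_nil, or_false])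

end Cfsg.Agent.Spor.SuzC.M
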